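import Groth.Agent.FibPerfLib.Main
import Groth.Agent.DerLib.Devissage
import Groth.Agent.PerfCompLib.Bounded

/-!
# A complex over a local ring which is a shift of the ring modulo an ideal
-/

set_option autoImplicit false
set_option linter.style.haveILetI false
set_option linter.unusedSectionVars false
set_option backward.isDefEq.respectTransparency false
set_option backward.isDefEq.respectTransparency.types false

universe u

open CategoryTheory CategoryTheory.Limits HomologicalComplex TensorProduct

attribute [local instance] HasDerivedCategory.standard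

noncomputable section

namespace Groth.Agent.DualFMLib

variable {B C : Type u} [CommRing B] [CommRing C] (ψ : B →+* C)

/-- The homology of the base change of a complex concentrated in one degree. -/
def homologyExtSingle (M : ModuleCat.{u} B) (n : ℤ) :
    ((DRingLib.extCx ψ).obj ((HomologicalComplex.single (ModuleCat.{u} B) (ComplexShape.up ℤ) n).obj M)).homology n ≅
      (ModuleCat.extendScalars.{u, u, u} ψ).obj M :=
  (HomologicalComplex.homologyFunctor _ _ n).mapIso
      ((HomologicalComplex.singleMapHomologicalComplex (ModuleCat.extendScalars.{u, u, u} ψ)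
        (ComplexShape.up ℤ) n).app M) ≪≫
    (HomologicalComplex.homologyFunctorSingleIso _ (ComplexShape.up ℤ) n).app _

/-- Base change of a free module. -/
def extFreeIso (r : ℕ) :
    (ModuleCat.extendScalars.{u, u, u} ψ).obj (ModuleCat.of B (Fin r → B)) ≅ ModuleCat.of C (Fin r → C) :=
  letI := ψ.toAlgebra
  (TensorProduct.piScalarRight B C C (Fin r)).toModuleIso

/-- Concentration in one degree, and rank one there, descends along a quotient of a local ring. -/
theorem rank_one_of_quotient [IsLocalRing B] [IsNoetherianRing B] [Nontrivial C]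
    (hs : Function.Surjective ψ) {P : CochainComplex (ModuleCat.{u} B) ℤ} (hP : DRing.IsKFlat B P)
    (hpc : ∀ m, DRing.IsPseudoCoherent B m (DerivedCategory.Q.obj P)) (n : ℤ)
    (hz : ∀ i, i ≠ n → IsZero (((DRingLib.extCx ψ).obj P).homology i))
    (q : ((DRingLib.extCx ψ).obj P).homology n ≅ ModuleCat.of C C) :
    (∀ i, i ≠ n → IsZero (P.homology i)) ∧ Nonempty (P.homology n ≅ ModuleCat.of B B) := by
  let Q := (DRingLib.extCx ψ).obj P
  haveI : (DerivedCategory.Q.obj Q).IsGE n := (DerivedCategory.isGE_iff _ n).2 fun i hi =>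
    DRingLib.isZero_Hn_of_homology (hz i (by omega))
  haveI : (DerivedCategory.Q.obj Q).IsLE n := (DerivedCategory.isLE_iff _ n).2 fun i hi =>
    DRingLib.isZero_Hn_of_homology (hz i (by omega))
  obtain ⟨eQ⟩ := DerLib.Devissage.nonempty_iso_single (DerivedCategory.Q.obj Q) n
  let S := (HomologicalComplex.single (ModuleCat.{u} C) (ComplexShape.up ℤ) n).obj (ModuleCat.of C C)
  have hC : DRing.HasTorAmplitudeIn C n n (DerivedCategory.Q.obj Q) := by
    refine ⟨S, fun i hi => HomologicalComplex.isZero_single_obj_X _ _ _ i (by omega), fun i => ?_, ⟨?_⟩⟩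
    · by_cases hi : i = n
      · subst hi
        exact Module.Flat.of_linearEquiv
          (HomologicalComplex.singleObjXSelf (ComplexShape.up ℤ) i (ModuleCat.of C C)).toLinearEquiv
      · haveI := DRingLib.free_of_isZero
          (HomologicalComplex.isZero_single_obj_X (ComplexShape.up ℤ) n (ModuleCat.of C C) i hi)
        infer_instance
    · exact ((DerivedCategory.singleFunctorIsoCompQ _ n).app _).symm ≪≫
        (DerivedCategory.singleFunctor _ n).mapIso
          (q.symm ≪≫ ((DerivedCategory.homologyFunctorFactors _ n).app Q).symm) ≪≫ eQ.symm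
  have hamp := FibPerfLib.amp_of_quotient ψ hs hP hpc hC
  have hA : DRingLib.Amp n n P := DRingLib.amp_of_hasTorAmplitudeIn hamp hP (Iso.refl _)
  have hzB : ∀ i, i ≠ n → IsZero (P.homology i) := fun i hi =>
    DRingLib.isZero_homology_of_amp hA i (by omega)
  refine ⟨hzB, ?_⟩
  obtain ⟨E, hE, hEf, ⟨eE⟩⟩ := hamp
  let M := (DRingLib.Hn B n).obj (DerivedCategory.Q.obj P)
  obtain ⟨e1⟩ := PerfCompLib.nonempty_iso_single E n fun i hi => hE i (by omega)
  haveI : Module.Finite B M := DRingLib.finite_of_isPseudoCoherent (hpc n) fun i hi =>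
    DRingLib.isZero_Hn_of_homology (hzB i (by omega))
  let eM : E.X n ≅ M := ((DerivedCategory.singleFunctorCompHomologyFunctorIso _ n).app _).symm ≪≫
    (DRingLib.Hn B n).mapIso ((DerivedCategory.singleFunctorIsoCompQ _ n).app _ ≪≫
      DerivedCategory.Q.mapIso e1.symm ≪≫ eE)
  haveI : Module.Flat B M := by
    haveI := hEf n
    exact Module.Flat.of_linearEquiv eM.symm.toLinearEquiv
  haveI : Module.Free B M := Module.free_of_flat_of_isLocalRing
  obtain ⟨r, ⟨b⟩⟩ : ∃ r : ℕ, Nonempty (Module.Basis (Fin r) B M) :=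
    ⟨_, ⟨(Module.Free.chooseBasis B M).reindex (Fintype.equivFin _)⟩⟩
  let R₀ := ModuleCat.of B (Fin r → B)
  let F := (HomologicalComplex.single (ModuleCat.{u} B) (ComplexShape.up ℤ) n).obj R₀
  have hFz : ∀ i, i ≠ n → IsZero (F.X i) := fun i hi =>
    HomologicalComplex.isZero_single_obj_X (ComplexShape.up ℤ) n R₀ i hi
  have hFf : ∀ i, Module.Free B (F.X i) := fun i => by
    by_cases hi : i = n
    · subst hi
      exact Module.Free.of_equiv (HomologicalComplex.singleObjXSelf (ComplexShape.up ℤ) i R₀).toLinearEquiv.symm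
    · exact DRingLib.free_of_isZero (hFz i hi)
  haveI := DRingLib.isKProjective_of_free F n (fun i hi => hFz i (by omega)) hFf
  let eF : DerivedCategory.Q.obj F ≅ DerivedCategory.Q.obj P :=
    ((DerivedCategory.singleFunctorIsoCompQ _ n).app _).symm ≪≫
      (DerivedCategory.singleFunctor _ n).mapIso (b.equivFun.symm.toModuleIso ≪≫ eM.symm) ≪≫
      (DerivedCategory.singleFunctorIsoCompQ _ n).app _ ≪≫ DerivedCategory.Q.mapIso e1.symm ≪≫ eE
  obtain ⟨g, hg⟩ := DRingLib.exists_qis_of_iso F P eF
  haveI := hg
  haveI : QuasiIso ((DRingLib.extCx ψ).map g) := KFlatLib.quasiIso_extend ψ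
    (DRingLib.isKFlat_of_free F n (fun i hi => hFz i (by omega)) hFf) hP g
  haveI : IsIso (homologyMap ((DRingLib.extCx ψ).map g) n) := inferInstance
  let eC : ModuleCat.of C (Fin r → C) ≅ ModuleCat.of C C :=
    (extFreeIso ψ r).symm ≪≫ (homologyExtSingle ψ R₀ n).symm ≪≫
      asIso (homologyMap ((DRingLib.extCx ψ).map g) n) ≪≫ q
  have h1 : r = 1 := by
    have := eC.toLinearEquiv.finrank_eq
    simpa using this
  subst h1
  haveI : IsIso (homologyMap g n) := inferInstance
  exact ⟨(asIso (homologyMap g n)).symm ≪≫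
    (HomologicalComplex.homologyFunctorSingleIso _ (ComplexShape.up ℤ) n).app R₀ ≪≫
    (LinearEquiv.funUnique (Fin 1) B B).toModuleIso⟩

end Groth.Agent.DualFMLib
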