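import Groth.Agent.KoszOrthLib.Detect
import Groth.Agent.Dual3Lib.Detect2
import Groth.Agent.Dual3Lib.PushCoh
import Groth.Agent.Dual3Lib.PerfPush

/-!
# The right adjoint of a perfect proper direct image keeps bounded coherent objects
-/

set_option autoImplicit false
set_option linter.style.haveILetI false
set_option linter.unusedSectionVars false
set_option backward.isDefEq.respectTransparency false
set_option backward.isDefEq.respectTransparency.types false

universe u

open CategoryTheory CategoryTheory.Limits AlgebraicGeometry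

attribute [local instance] HasDerivedCategory.standard

noncomputable section

namespace Groth.Agent.DualFMLib

open KoszOrthLib

/-- `a` keeps coherent, bounded cohomology when `Rf_*` keeps perfect objects. -/
theorem isCohD_and_bounded_rightAdjoint {X Y : Scheme.{u}} [IsNoetherian Y] (f : X ⟶ Y) [IsProper f]
    (hperf : MoreMor.IsPerfectMor f) [DCoh.HasRpush f] (hf : DCoh.RpushPreservesQCoh f)
    (a : DCoh.DQCoh Y ⥤ DCoh.DQCoh X) (adj : DCoh.RpushQ f hf ⊣ a) (Q : DCoh.DQCoh Y)
    (hQ : DCoh.IsCohD Q.obj) (hb : ∃ c d : ℤ, Q.obj.IsGE c ∧ Q.obj.IsLE d) :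
    DCoh.IsCohD (a.obj Q).obj ∧ ∃ c d : ℤ, (a.obj Q).obj.IsGE c ∧ (a.obj Q).obj.IsLE d := by
  haveI : IsLocallyNoetherian X := LocallyOfFiniteType.isLocallyNoetherian f
  haveI : CompactSpace X := QuasiCompact.compactSpace_of_compactSpace f
  haveI : IsNoetherian X := ⟨⟩
  obtain ⟨c, d, hc, hd⟩ := hb
  haveI := hc
  refine ⟨Dual3Lib.isCohD_of_test f (a.obj Q).property
    fun E hE => Dual3Lib.isCohD_rpush_ten_rightAdjoint f hf a adj Q hQ c hE, ?_⟩
  have key : ∀ lf : Filter ℤ, GoodDir.{u} lf → EvZero lf Q.obj → EvZero lf (a.obj Q).obj := by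
    intro lf hlf hQz
    refine detects_of_qcqs hlf X Set.univ isClosed_univ ?_ (a.obj Q).obj (a.obj Q).property
      (fun _ => Set.subset_univ _) fun K hK _ => ?_
    · rw [Set.compl_univ]
      exact IsRetrocompact.empty
    obtain ⟨_, _⟩ := QRlimLib.exists_isTriangulated_rpush f
    have hP := Dual3Lib.isPerfect_rpush_of_perfectMor f hperf hK
    refine (EvV.of_evZero hlf hP Q.property hQz).mono fun i hi => ?_
    refine (forall_shift_iff K (a.obj Q).obj (-i) i (by omega)).1 fun φ => ?_
    let K' : DCoh.DQCoh X := ⟨K⟦-i⟧, KoszOrthLib.isQCohD_of_isPerfect (PerfLib.isPerfect_shift hK (-i))⟩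
    have h0 : ((adj.homEquiv K' Q).symm (ObjectProperty.homMk φ)).hom = 0 := by
      let e := ((DCoh.Rpush f).commShiftIso (-i)).app K
      refine (cancel_epi e.inv).1 ?_
      rw [comp_zero]
      exact (forall_shift_iff ((DCoh.Rpush f).obj K) Q.obj (-i) i (by omega)).2 hi _
    have h1 := congrArg (adj.homEquiv K' Q) (ObjectProperty.hom_ext _ h0 :
      (adj.homEquiv K' Q).symm (ObjectProperty.homMk φ) = 0)
    rw [Equiv.apply_symm_apply, Adjunction.homEquiv_unit] at h1
    have h2 := congrArg (fun q => q.hom) h1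
    haveI : a.PreservesZeroMorphisms :=
      haveI : a.IsRightAdjoint := ⟨_, ⟨adj⟩⟩
      inferInstance
    simpa using h2
  obtain ⟨c', hc'⟩ := (exists_isGE_iff _).2 (key _ goodDir_atBot ((exists_isGE_iff _).1 ⟨c, hc⟩))
  obtain ⟨d', hd'⟩ := (exists_isLE_iff _).2 (key _ goodDir_atTop ((exists_isLE_iff _).1 ⟨d, hd⟩))
  exact ⟨c', d', hc', hd'⟩

end Groth.Agent.DualFMLib
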