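import Groth.Agent.RelFlatLib.OpenAmp
import Groth.Agent.PerfLib.FiniteType
import Groth.Agent.PerfLib.Coherent
import Groth.Agent.QCohLib.Coherent
import Groth.Agent.QCohLib.AffineFinite
import Groth.Agent.DerLib.Devissage
import Groth.Prelude.Def_Dual3

/-!
# Spreading out: near a point where the stalk is a shift of the local ring
-/

set_option autoImplicit false
set_option linter.style.haveILetI false
set_option linter.unusedSectionVars false
set_option backward.isDefEq.respectTransparency false
set_option backward.isDefEq.respectTransparency.types false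

universe u

open CategoryTheory CategoryTheory.Limits AlgebraicGeometry

attribute [local instance] HasDerivedCategory.standard

noncomputable section

namespace Groth.Agent.DualFMLib

open KFlatLib

variable {X : Scheme.{u}}

/-- Extension of scalars of the ring. -/
def extOneIso {R S : Type u} [CommRing R] [CommRing S] (φ : R →+* S) :
    (ModuleCat.extendScalars.{u, u, u} φ).obj (ModuleCat.of R R) ≅ ModuleCat.of S S :=
  letI := φ.toAlgebra
  (TensorProduct.AlgebraTensorModule.rid R S S).toModuleIso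

/-- The stalk of the structure sheaf. -/
def stalkOneIso (x : X) :
    (DerSch.stalkFunctor X x).obj (Coh.structureModule X) ≅
      ModuleCat.of (X.presheaf.stalk x) (X.presheaf.stalk x) :=
  (DerSch.stalkFunctor X x).mapIso (structureIso X).symm ≪≫
    stalkFreeUIso x (show x ∈ (⊤ : X.Opens) from trivial)

/-- A finitely presented module with stalk the local ring is trivial near the point. -/
theorem exists_trivial_nhd {M : X.Modules} (hM : CohB1.IsFP M) (x : X)
    (q : (DerSch.stalkFunctor X x).obj M ≅ ModuleCat.of (X.presheaf.stalk x) (X.presheaf.stalk x)) :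
    ∃ U : X.Opens, x ∈ U ∧
      Nonempty ((Scheme.Modules.pullback U.ι).obj M ≅ Coh.structureModule (U : Scheme.{u})) := by
  obtain ⟨O, P, hxO, hP⟩ := Groth.Agent.PerfLib.exists_presentation_nhd hM x
  let M' := M.restrict O.ι
  haveI := hP.isFiniteType_generators
  haveI := hP.isFiniteType_relations
  haveI : Finite P.generators.I := inferInstance
  haveI : Finite P.relations.I := inferInstance
  obtain ⟨q', ⟨eq⟩⟩ := Groth.Agent.PerfLib.isFinFree_free (X := (O : Scheme.{u})) P.generators.I
  obtain ⟨p, ⟨ep⟩⟩ := Groth.Agent.PerfLib.isFinFree_free (X := (O : Scheme.{u})) P.relations.I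
  let π' : (SheafOfModules.free P.generators.I : (O : Scheme.{u}).Modules) ⟶ M' := P.generators.π
  haveI : Epi π' := P.generators.epi
  let ρ : (SheafOfModules.free P.relations.I : (O : Scheme.{u}).Modules) ⟶ kernel π' := P.relations.π
  haveI : Epi ρ := P.relations.epi
  have hc := isCokernelEpiComp (Abelian.epiIsCokernelOfKernel _ (kernelIsKernel π')) ρ
    (h := ρ ≫ kernel.ι π') rfl
  have hw : (ρ ≫ kernel.ι π') ≫ π' = 0 := by rw [Category.assoc, kernel.condition, comp_zero]
  let y : (O : Scheme.{u}) := ⟨x, hxO⟩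
  have hflat : FlatMod.IsFlatAt M' y := by
    haveI : Module.Flat ((O : Scheme.{u}).presheaf.stalk y)
        ((DerSch.stalkFunctor (O : Scheme.{u}) y).obj ((Scheme.Modules.pullback O.ι).obj M)) := by
      let e := (stalkPullIso O.ι y).app M ≪≫
        (ModuleCat.extendScalars.{u, u, u} (O.ι.stalkMap y).hom).mapIso q
      exact Module.Flat.of_linearEquiv (e ≪≫ extOneIso (O.ι.stalkMap y).hom).toLinearEquiv
    exact Module.Flat.of_linearEquiv
      ((DerSch.stalkFunctor (O : Scheme.{u}) y).mapIso
        ((Scheme.Modules.restrictFunctorIsoPullback O.ι).app M)).toLinearEquiv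
  have hfn := RelFlatLib.freeNear_of_flatAt (g := (ep.symm.hom ≫ (ρ ≫ kernel.ι π') ≫ eq.symm.inv)) _ (by
      simp only [Iso.symm_hom, Iso.symm_inv, Category.assoc, Iso.hom_inv_id_assoc]
      erw [← Category.assoc ρ, hw, comp_zero])
    (isColimitConj (w := hw) hc ep.symm eq.symm (by
      simp only [Iso.symm_hom, Iso.symm_inv, Category.assoc, Iso.hom_inv_id_assoc]
      erw [← Category.assoc ρ, hw, comp_zero]))
    y hflat
  obtain ⟨W, hW, hfree⟩ := hfn
  obtain ⟨U, hxU, r, ⟨er⟩⟩ := freeNear_of_pullback (U := O) y ⟨W, hW, isFinFree_of_iso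
    ((Scheme.Modules.pullback W.ι).mapIso ((Scheme.Modules.restrictFunctorIsoPullback O.ι).app M)) hfree⟩
  let z : (U : Scheme.{u}) := ⟨x, hxU⟩
  let eC : ModuleCat.of ((U : Scheme.{u}).presheaf.stalk z) (Fin r → (U : Scheme.{u}).presheaf.stalk z) ≅
      ModuleCat.of _ ((U : Scheme.{u}).presheaf.stalk z) :=
    (stalkFreeModIso _ z r).symm ≪≫ ((DerSch.stalkFunctor _ z).mapIso er).symm ≪≫
      (stalkPullIso U.ι z).app M ≪≫
      (ModuleCat.extendScalars.{u, u, u} (U.ι.stalkMap z).hom).mapIso q ≪≫
      extOneIso (U.ι.stalkMap z).hom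
  have h1 : r = 1 := by simpa using eC.toLinearEquiv.finrank_eq
  subst h1
  exact ⟨U, hxU, ⟨er ≪≫ Limits.coproductUniqueIso fun _ : Fin 1 => Coh.structureModule (U : Scheme.{u})⟩⟩

/-- A module of finite type with zero stalk vanishes near the point. -/
theorem exists_isZero_nhd {M : X.Modules} (hM : CohB1.IsFT M) (x : X)
    (h : IsZero ((DerSch.stalkFunctor X x).obj M)) :
    ∃ U : X.Opens, x ∈ U ∧ IsZero ((Scheme.Modules.pullback U.ι).obj M) := by
  let V : X.Opens := ⟨(CohB1.support M)ᶜ, (QCohLib.isClosed_support M hM).isOpen_compl⟩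
  have hxV : x ∈ V := not_not.mpr (ModuleCat.subsingleton_of_isZero h)
  refine ⟨V, hxV, KFlatLib.isZero_of_stalks fun z => ?_⟩
  haveI : Subsingleton (M.presheaf.stalk (V.ι z)) := not_not.mp z.2
  haveI : Subsingleton ((DerSch.stalkFunctor X (V.ι z)).obj M) := ‹Subsingleton (M.presheaf.stalk (V.ι z))›
  exact ModuleCat.subsingleton_of_isZero
    (((ModuleCat.extendScalars.{u, u, u} _).map_isZero
      (ModuleCat.isZero_of_subsingleton ((DerSch.stalkFunctor X (V.ι z)).obj M))).of_iso
      ((stalkPullIso V.ι z).app M))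

/-- An object whose cohomology stalks at a point form a shift of the local ring is a shift of the
structure sheaf near the point. -/
theorem exists_shift_nhd [IsLocallyNoetherian X] {E : DCoh.D X} (hc : ∀ i, Coh.IsCoh (DCoh.HD E i))
    {a b : ℤ} [E.IsGE a] [E.IsLE b] (x : X) (n : ℤ)
    (hz : ∀ i, i ≠ n → IsZero ((DerSch.stalkFunctor X x).obj (DCoh.HD E i)))
    (q : (DerSch.stalkFunctor X x).obj (DCoh.HD E n) ≅ ModuleCat.of (X.presheaf.stalk x) (X.presheaf.stalk x)) :
    ∃ U : X.Opens, x ∈ U ∧ Nonempty ((DCoh.restrictD U.ι).obj E ≅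
      (DCoh.inD (U : Scheme.{u}) (Coh.structureModule (U : Scheme.{u})))⟦-n⟧) := by
  classical
  have h0 : ∀ i : ℤ, ∃ V : X.Opens, x ∈ V ∧ (i ≠ n → IsZero ((Scheme.Modules.pullback V.ι).obj (DCoh.HD E i))) := by
    intro i
    by_cases hi : i = n
    · exact ⟨⊤, trivial, fun h => absurd hi h⟩
    · obtain ⟨V, hV, hzV⟩ := exists_isZero_nhd (hc i).2 x (hz i hi)
      exact ⟨V, hV, fun _ => hzV⟩
  choose V hxV hV using h0
  obtain ⟨U₀, hxU₀, ⟨e₀⟩⟩ := exists_trivial_nhd (QCohLib.isFP_of_isCoh _ (hc n)) x q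
  let U : X.Opens := U₀ ⊓ (Finset.Icc a b).inf V
  have hxU : x ∈ U := ⟨hxU₀, by
    suffices ∀ t : Finset ℤ, x ∈ t.inf V from this _
    intro t
    induction t using Finset.cons_induction with
    | empty => exact TopologicalSpace.Opens.mem_top x
    | cons i t _ ih => rw [Finset.inf_cons]; exact ⟨hxV i, ih⟩⟩
  refine ⟨U, hxU, ?_⟩
  let E' := (DCoh.restrictD U.ι).obj E
  let eH : ∀ i, DCoh.HD E' i ≅ (Scheme.Modules.pullback U.ι).obj (DCoh.HD E i) := fun i =>
    (DerLib.ExactHomology.homologyIso (Scheme.Modules.restrictFunctor U.ι) i).app E ≪≫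
      (Scheme.Modules.restrictFunctorIsoPullback U.ι).app _
  let pull : ∀ {W : X.Opens} (h : U ≤ W) (M : X.Modules),
      (Scheme.Modules.pullback (X.homOfLE h)).obj ((Scheme.Modules.pullback W.ι).obj M) ≅
        (Scheme.Modules.pullback U.ι).obj M := fun {W} h M =>
    (Scheme.Modules.pullbackComp (X.homOfLE h) W.ι ≪≫ Scheme.Modules.pullbackCongr (X.homOfLE_ι h)).app M
  have hz' : ∀ i, i ≠ n → IsZero (DCoh.HD E' i) := fun i hi => by
    refine IsZero.of_iso ?_ (eH i)
    by_cases hib : i ∈ Finset.Icc a b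
    · exact (Functor.map_isZero _ (hV i hi)).of_iso
        (pull (inf_le_right.trans (Finset.inf_le hib)) _).symm
    · refine Functor.map_isZero _ ?_
      rw [Finset.mem_Icc, not_and_or, not_le, not_le] at hib
      rcases hib with h | h
      · exact DerivedCategory.isZero_of_isGE E a i h
      · exact DerivedCategory.isZero_of_isLE E b i h
  haveI : E'.IsGE n := (DerivedCategory.isGE_iff _ n).2 fun i hi => hz' i (by omega)
  haveI : E'.IsLE n := (DerivedCategory.isLE_iff _ n).2 fun i hi => hz' i (by omega)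
  obtain ⟨c⟩ := DerLib.Devissage.nonempty_iso_single E' n
  exact ⟨c ≪≫ (DerivedCategory.singleFunctor _ n).mapIso
    (eH n ≪≫ (pull inf_le_left _).symm ≪≫ (Scheme.Modules.pullback (X.homOfLE inf_le_left)).mapIso e₀ ≪≫
      KFlatLib.pullUnitIso _) ≪≫
    (((DerivedCategory.singleFunctors (U : Scheme.{u}).Modules).shiftIso (-n) n 0 (by omega)).app _).symm⟩

end Groth.Agent.DualFMLib
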