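import Groth.Agent.DualFMLib.GorFib.Alg
import Groth.Agent.DualFMLib.GorFib.Spread
import Groth.Agent.PerfDualLib.CohPC

/-!
# An object which is invertible on the fibres through the closed points is invertible
-/

set_option autoImplicit false
set_option linter.style.haveILetI false
set_option linter.unusedSectionVars false
set_option backward.isDefEq.respectTransparency false
set_option backward.isDefEq.respectTransparency.types false

universe u

open CategoryTheory CategoryTheory.Limits AlgebraicGeometry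

attribute [local instance] HasDerivedCategory.standard

noncomputable section

namespace Groth.Agent.DualFMLib

variable {X : Scheme.{u}}

section RingEquiv

variable {R S : Type u} [CommRing R] [CommRing S] (φ : R →+* S) (hφ : Function.Bijective φ)

include hφ in
/-- Extension of scalars along a bijection loses nothing. -/
theorem nonempty_extRingEquiv (N : ModuleCat.{u} R) :
    Nonempty (N ≃+ (ModuleCat.extendScalars.{u, u, u} φ).obj N) := by
  letI := φ.toAlgebra
  let e : R ≃ₗ[R] S := LinearEquiv.ofBijective (Algebra.linearMap R S) hφ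
  exact ⟨((TensorProduct.lid R N).symm.trans (TensorProduct.congr e (LinearEquiv.refl R N))).toAddEquiv⟩

include hφ in
theorem nonempty_descendOne (N : ModuleCat.{u} R)
    (u : (ModuleCat.extendScalars.{u, u, u} φ).obj N ≅ ModuleCat.of S S) :
    Nonempty (N ≅ ModuleCat.of R R) := by
  letI := φ.toAlgebra
  let e : R ≃ₗ[R] S := LinearEquiv.ofBijective (Algebra.linearMap R S) hφ
  let u' : TensorProduct R S N ≃ₗ[S] S := u.toLinearEquiv
  exact ⟨(((TensorProduct.lid R N).symm.trans (TensorProduct.congr e (LinearEquiv.refl R N))).trans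
    ((u'.restrictScalars R).trans e.symm)).toModuleIso⟩

end RingEquiv

/-- Cohomology of a model, at a stalk. -/
def stalkHIso {K : DCoh.D X} {P : CochainComplex X.Modules ℤ} (e : DCoh.toD X P ≅ K) (x : X) (i : ℤ) :
    ((KFlatLib.stalkCx X x).obj P).homology i ≅ (DerSch.stalkFunctor X x).obj (DCoh.HD K i) :=
  (P.sc i).mapHomologyIso (DerSch.stalkFunctor X x) ≪≫
    (DerSch.stalkFunctor X x).mapIso (((DerivedCategory.homologyFunctorFactors X.Modules i).app P).symm ≪≫
      (DerivedCategory.homologyFunctor X.Modules i).mapIso e)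

/-- An object invertible on a closed subscheme through a point has there a stalk which is a shift of
the local ring. -/
theorem stalk_of_invertible_pull [IsLocallyNoetherian X] {F : Scheme.{u}} (i : F ⟶ X) [DCoh.HasLpull i]
    {E : DCoh.D X} (hpc : ∀ m, DCoh.IsPseudoCoherentD m E) (y : F)
    (hs : Function.Surjective (i.stalkMap y).hom)
    [∀ (U : Scheme.{u}) (j : U ⟶ F) [IsOpenImmersion j], PreservesFiniteLimits (Scheme.Modules.restrictFunctor j)]
    (G : DCoh.D F) (hinv : Dual3.IsInvertibleD G)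
    (e : ∀ k, Nonempty (DCoh.HD ((DCoh.Lpull i).obj E) k ≅ DCoh.HD G k)) :
    ∃ n : ℤ, (∀ k, k ≠ n → IsZero ((DerSch.stalkFunctor X (i y)).obj (DCoh.HD E k))) ∧
      Nonempty ((DerSch.stalkFunctor X (i y)).obj (DCoh.HD E n) ≅
        ModuleCat.of (X.presheaf.stalk (i y)) (X.presheaf.stalk (i y))) := by
  obtain ⟨P, hP, ⟨eP⟩⟩ := KFlatLib.exists_good_rep E
  obtain ⟨V, m, hy, ⟨c⟩⟩ := hinv y
  let y' : (V : Scheme.{u}) := ⟨y, hy⟩
  let eG : DCoh.toD F ((KFlatLib.pullCx i).obj P) ≅ (DCoh.Lpull i).obj E :=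
    (KFlatLib.lpullObjIso i P hP.1).symm ≪≫ (DCoh.Lpull i).mapIso eP
  let S := (DerivedCategory.singleFunctor (V : Scheme.{u}).Modules 0).obj (Coh.structureModule (V : Scheme.{u}))
  let eV : ∀ k, (DerSch.stalkFunctor (V : Scheme.{u}) y').obj ((Scheme.Modules.pullback V.ι).obj (DCoh.HD G k)) ≅
      (DerSch.stalkFunctor (V : Scheme.{u}) y').obj ((DerivedCategory.homologyFunctor _ k).obj (S⟦m⟧)) := fun k =>
    (DerSch.stalkFunctor _ y').mapIso
      (((DerLib.ExactHomology.homologyIso (Scheme.Modules.restrictFunctor V.ι) k).app G ≪≫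
        (Scheme.Modules.restrictFunctorIsoPullback V.ι).app _).symm ≪≫
          (DerivedCategory.homologyFunctor _ k).mapIso c)
  let eS : S⟦m⟧ ≅ (DerivedCategory.singleFunctor (V : Scheme.{u}).Modules (-m)).obj
      (Coh.structureModule (V : Scheme.{u})) :=
    ((DerivedCategory.singleFunctors (V : Scheme.{u}).Modules).shiftIso m (-m) 0 (by omega)).app _
  haveI : IsIso (V.ι.stalkMap y') := inferInstance
  have hφ : Function.Bijective (V.ι.stalkMap y').hom := ConcreteCategory.bijective_of_isIso _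
  -- the stalk of `G` at `y`
  have hGz : ∀ k, k ≠ -m → IsZero ((DerSch.stalkFunctor F y).obj (DCoh.HD G k)) := fun k hk => by
    have h1 : IsZero ((DerSch.stalkFunctor (V : Scheme.{u}) y').obj
        ((Scheme.Modules.pullback V.ι).obj (DCoh.HD G k))) := by
      refine IsZero.of_iso (Functor.map_isZero _ ?_) (eV k)
      refine IsZero.of_iso ?_ ((DerivedCategory.homologyFunctor _ k).mapIso eS)
      rcases lt_or_gt_of_ne hk with h | h
      · exact DerivedCategory.isZero_of_isGE _ (-m) k h
      · exact DerivedCategory.isZero_of_isLE _ (-m) k h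
    have h2 := h1.of_iso ((KFlatLib.stalkPullIso V.ι y').app (DCoh.HD G k)).symm
    refine @ModuleCat.isZero_of_subsingleton _ _ _ ?_
    haveI : Subsingleton ((ModuleCat.extendScalars.{u, u, u} (V.ι.stalkMap y').hom).obj
        ((DerSch.stalkFunctor F (V.ι y')).obj (DCoh.HD G k))) := ModuleCat.subsingleton_of_isZero h2
    exact (nonempty_extRingEquiv _ hφ ((DerSch.stalkFunctor F (V.ι y')).obj (DCoh.HD G k))).some.toEquiv.subsingleton
  let u : (DerSch.stalkFunctor (V : Scheme.{u}) y').obj ((Scheme.Modules.pullback V.ι).obj (DCoh.HD G (-m))) ≅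
      ModuleCat.of ((V : Scheme.{u}).presheaf.stalk y') ((V : Scheme.{u}).presheaf.stalk y') :=
    eV (-m) ≪≫ (DerSch.stalkFunctor _ y').mapIso ((DerivedCategory.homologyFunctor _ (-m)).mapIso eS ≪≫
      (DerivedCategory.singleFunctorCompHomologyFunctorIso _ (-m)).app _) ≪≫ stalkOneIso y'
  obtain ⟨v⟩ : Nonempty ((DerSch.stalkFunctor F y).obj (DCoh.HD G (-m)) ≅
      ModuleCat.of (F.presheaf.stalk y) (F.presheaf.stalk y)) :=
    nonempty_descendOne _ hφ _ ((KFlatLib.stalkPullIso V.ι y').symm.app (DCoh.HD G (-m)) ≪≫ u)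
  -- descent to `X`
  let ψ := (i.stalkMap y).hom
  let eC : ∀ k, ((DRingLib.extCx ψ).obj ((KFlatLib.stalkCx X (i y)).obj P)).homology k ≅
      (DerSch.stalkFunctor F y).obj (DCoh.HD G k) := fun k =>
    (HomologicalComplex.homologyFunctor _ _ k).mapIso (KFlatLib.stalkPullCxIso i y P).symm ≪≫ stalkHIso eG y k ≪≫
      (DerSch.stalkFunctor F y).mapIso (e k).some
  haveI : IsNoetherianRing (X.presheaf.stalk (i y)) := inferInstance
  obtain ⟨hz, ⟨q⟩⟩ := rank_one_of_quotient ψ hs (KFlatLib.stalks_isKFlat hP.1 (i y))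
    (fun k => RelFlatLib.stalkCx_pc eP (hpc k) (i y)) (-m) (fun k hk => (hGz k hk).of_iso (eC k)) (eC (-m) ≪≫ v)
  exact ⟨-m, fun k hk => (hz k hk).of_iso (stalkHIso eP (i y) k).symm, ⟨(stalkHIso eP (i y) (-m)).symm ≪≫ q⟩⟩

variable [∀ (U : Scheme.{u}) (j : U ⟶ X) [IsOpenImmersion j], PreservesFiniteLimits (Scheme.Modules.restrictFunctor j)]

/-- A bounded coherent object which is invertible on a closed subscheme through every closed point is
invertible. -/
theorem isInvertibleD_of_closed_points [IsNoetherian X] {E : DCoh.D X} (hc : DCoh.IsCohD E) {a b : ℤ}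
    [E.IsGE a] [E.IsLE b]
    (H : ∀ x : X, IsClosed ({x} : Set X) → ∃ n : ℤ,
      (∀ k, k ≠ n → IsZero ((DerSch.stalkFunctor X x).obj (DCoh.HD E k))) ∧
        Nonempty ((DerSch.stalkFunctor X x).obj (DCoh.HD E n) ≅
          ModuleCat.of (X.presheaf.stalk x) (X.presheaf.stalk x))) :
    Dual3.IsInvertibleD E := by
  intro x
  obtain ⟨x₀, hx₀, hcl⟩ := isClosed_closure.exists_closed_singleton
    (Set.singleton_nonempty x).closure (S := closure ({x} : Set X))
  obtain ⟨n, hz, ⟨q⟩⟩ := H x₀ hcl
  obtain ⟨U, hxU, he⟩ := exists_shift_nhd (a := a) (b := b) hc x₀ n hz q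
  exact ⟨U, -n, (specializes_iff_mem_closure.2 hx₀).mem_open U.isOpen hxU, he⟩

end Groth.Agent.DualFMLib
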