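import Groth.Agent.DualFMLib.GorFib.Crit
import Groth.Agent.DualFMLib.GorFib.Bounded
import Groth.Agent.DualFMLib.Nat
import Groth.Agent.DualFMLib.Comp
import Groth.Agent.DualFMLib.FlatHom.Core
import Groth.Agent.Dual3Lib.RightAdjTensorIso
import Groth.Agent.KoszOrthLib.DQCohCoprod
import Groth.Agent.KoszOrthLib.DQCohPush
import Groth.Agent.Dual3Lib.AmplitudeField
import Groth.Agent.Dual3Lib.RelPC
import Groth.Agent.ImmPCLib.Basic
import Groth.Agent.PerfBaseLib.SplitSheaf
import Groth.Agent.Dual3Lib.SerreMain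
import Groth.Agent.DualCxLib.SchGor
import Groth.Agent.HensSchLib.Flat
import Groth.Agent.ExtShLib.Dualizing
import Groth.Agent.S1002

/-!
# The relative dualizing complex of a Gorenstein morphism is invertible
-/

set_option autoImplicit false
set_option linter.style.haveILetI false
set_option linter.unusedSectionVars false
set_option backward.isDefEq.respectTransparency false
set_option backward.isDefEq.respectTransparency.types false
set_option maxHeartbeats 2000000
set_option synthInstance.maxHeartbeats 200000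

universe u

open CategoryTheory CategoryTheory.Limits AlgebraicGeometry
open Groth.Agent.DerLib Groth.Agent.PerfDualLib Groth.Agent.ProjFormLib

attribute [local instance] HasDerivedCategory.standard
attribute [local instance] Groth.Agent.ImmPCLib.lim_push Groth.Agent.ImmPCLib.colim_push

noncomputable section

namespace Groth.Agent.DualFMLib

/-- Derived inverse image of the unit. -/
theorem nonempty_lpull_unitCx {X Y : Scheme.{u}} (f : X ⟶ Y) [DCoh.HasLpull f] :
    Nonempty ((DCoh.Lpull f).obj (DerivedCategory.Q.obj (unitCx Y)) ≅ DerivedCategory.Q.obj (unitCx X)) :=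
  ⟨KFlatLib.lpullObjIso f (unitCx Y) (Dual3Lib.Serre.isKFlat_unitCx Y) ≪≫
    DerivedCategory.Q.mapIso
      ((HomologicalComplex.singleMapHomologicalComplex (Scheme.Modules.pullback f) (ComplexShape.up ℤ) 0).app _ ≪≫
        (HomologicalComplex.single X.Modules (ComplexShape.up ℤ) 0).mapIso (KFlatLib.pullUnitIso f))⟩

/-- The unit tensored with a K-flat complex. -/
theorem nonempty_lTensor_unit_left {X : Scheme.{u}} (E : Cx X) (hE : DCoh.IsKFlat E) [DCoh.HasLTensorCx E] :
    Nonempty ((DCoh.LTensorCx E).obj (DerivedCategory.Q.obj (unitCx X)) ≅ DerivedCategory.Q.obj E) :=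
  ⟨(Dual3Lib.flatCnt' E hE).app (unitCx X) ≪≫
    DerivedCategory.Q.mapIso (PerfDualLib.bX (unitCx X) E ≪≫ PerfDualLib.unitNat.app E)⟩

/-- Right adjoints and base change: `a ∘ Ri_* ≅ Ri'_* ∘ a'` for a square with flat `f`. -/
theorem nonempty_push_rightAdjoint {X Y X' Y' : Scheme.{u}} {f : X ⟶ Y} {i : Y' ⟶ Y} {f' : X' ⟶ Y'}
    {i' : X' ⟶ X} (H : IsPullback i' f' f i) [QuasiCompact f] [QuasiSeparated f] (hflat : Flat f ∨ Flat i)
    [DCoh.HasRpush f] [DCoh.HasRpush f'] [DCoh.HasRpush i] [DCoh.HasRpush i'] [DCoh.HasLpull i]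
    [DCoh.HasLpull i']
    {hf : DCoh.RpushPreservesQCoh f} {hf' : DCoh.RpushPreservesQCoh f'}
    (hi : DCoh.RpushPreservesQCoh i) (hi' : DCoh.RpushPreservesQCoh i')
    (hLi : Dual3.LpullPreservesQCoh i) (hLi' : Dual3.LpullPreservesQCoh i')
    {a : DCoh.DQCoh Y ⥤ DCoh.DQCoh X} {a' : DCoh.DQCoh Y' ⥤ DCoh.DQCoh X'}
    (adj : DCoh.RpushQ f hf ⊣ a) (adj' : DCoh.RpushQ f' hf' ⊣ a') (M : DCoh.DQCoh Y') :
    Nonempty ((a.obj ((DCoh.RpushQ i hi).obj M)).obj ≅ (DCoh.Rpush i').obj (a'.obj M).obj) := by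
  obtain ⟨θ⟩ := nonempty_bcNat (f := f) (g := i) H hflat
  let θQ : DCoh.RpushQ f hf ⋙ Dual3.LpullQ i hLi ≅ Dual3.LpullQ i' hLi' ⋙ DCoh.RpushQ f' hf' :=
    NatIso.ofComponents (fun E => ObjectProperty.isoMk _ (θ.app E))
      (fun {_ _} u => ObjectProperty.hom_ext _ (θ.hom.naturality u))
  let c := ((conjugateIsoEquiv (adj.comp (adjQ hLi hi)) ((adjQ hLi' hi').comp adj')) θQ.symm).app M
  exact ⟨(DCoh.IsQCohD (X := X)).ι.mapIso c⟩

section Fibre

variable {X S : Scheme.{u}} [IsNoetherian S] (f : X ⟶ S) [IsProper f] [Flat f] (hG : Dual3.IsGorensteinMor f)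
  [DCoh.HasRpush f] (hf : DCoh.RpushPreservesQCoh f) (a : DCoh.DQCoh S ⥤ DCoh.DQCoh X)
  (adj : DCoh.RpushQ f hf ⊣ a) (O : DCoh.DQCoh S) (hO : O.obj ≅ DCoh.inD S (Coh.structureModule S))

include hG in
theorem isGorenstein_fiber (s : S) : Dual3.IsGorenstein (f.fiber s) := by
  haveI : LocallyOfFiniteType (f.fiberToSpecResidueField s) :=
    MorphismProperty.pullback_snd (P := @LocallyOfFiniteType) _ _ inferInstance
  haveI : IsLocallyNoetherian (Spec (S.residueField s)) := inferInstance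
  refine ⟨LocallyOfFiniteType.isLocallyNoetherian (f.fiberToSpecResidueField s), fun y => ?_⟩
  have key : ∀ (t : S) (y : f.fiber t) (x : X), f x = t → f.fiberι t y = x →
      LocCoh.IsGorensteinLocalRing ((f.fiber t).presheaf.stalk y) := by
    intro t y x ht hy
    subst ht
    have h : y = f.asFiber x :=
      (f.fiberι _).isEmbedding.injective (hy.trans (f.fiberι_asFiber x).symm)
    rw [h]
    exact (hG x).2
  refine key s y _ ?_ rfl
  have h2 : f.fiberι s y ∈ f.base ⁻¹' {s} := f.range_fiberι s ▸ ⟨y, rfl⟩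
  exact h2

include adj hO hG in
/-- On the fibre over a closed point, the relative dualizing complex has the cohomology of an
invertible object. -/
theorem exists_fibre_model (s : S) (hs : IsClosed ({s} : Set S)) [DCoh.HasLpull (f.fiberι s)]
    [∀ (U : Scheme.{u}) (j : U ⟶ f.fiber s) [IsOpenImmersion j], PreservesFiniteLimits (Scheme.Modules.restrictFunctor j)] :
    ∃ G : DCoh.D (f.fiber s), Dual3.IsInvertibleD G ∧
      ∀ k, Nonempty (DCoh.HD ((DCoh.Lpull (f.fiberι s)).obj (a.obj O).obj) k ≅ DCoh.HD G k) := by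
  haveI : IsLocallyNoetherian X := LocallyOfFiniteType.isLocallyNoetherian f
  haveI : CompactSpace X := QuasiCompact.compactSpace_of_compactSpace f
  haveI : IsNoetherian X := ⟨⟩
  let i := S.fromSpecResidueField s
  haveI : IsClosedImmersion i := isClosed_singleton_iff_isClosedImmersion.1 hs
  let i' := f.fiberι s
  let f' := f.fiberToSpecResidueField s
  have H : IsPullback i' f' f i := IsPullback.of_hasPullback f (S.fromSpecResidueField s)
  haveI : IsClosedImmersion i' := MorphismProperty.of_isPullback (P := @IsClosedImmersion) H.flip ‹IsClosedImmersion i›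
  haveI : IsProper f' := MorphismProperty.of_isPullback (P := @IsProper) H inferInstance
  haveI : IsNoetherian (Spec (S.residueField s)) := inferInstance
  haveI : QuasiSeparatedSpace (f.fiber s) := quasiSeparatedSpace_of_quasiSeparated f'
  haveI := DCohRestrLib.hasRpush i
  haveI := DCohRestrLib.hasRpush i'
  haveI := DCohRestrLib.hasRpush f'
  haveI := KFlatLib.hasLpull i
  haveI := KFlatLib.hasLpull f
  haveI := KFlatLib.hasLpull f'
  have hf' : DCoh.RpushPreservesQCoh f' := fun E hE => QRlimLib.isQCohD_rpush f' hE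
  have hi : DCoh.RpushPreservesQCoh i := fun E hE => QRlimLib.isQCohD_rpush i hE
  have hi' : DCoh.RpushPreservesQCoh i' := fun E hE => QRlimLib.isQCohD_rpush i' hE
  haveI := KoszOrthLib.isLeftAdjoint_rpushQ f' hf'
  let adj' := Adjunction.ofIsLeftAdjoint (DCoh.RpushQ f' hf')
  have hκ : DCoh.IsQCohD (DerivedCategory.Q.obj (unitCx (Spec (S.residueField s)))) :=
    KoszOrthLib.isQCohD_of_isPerfect (PerfBaseLib.isPerfect_of_strictlyPerfect (isStrictlyPerfect_unitCx _))
  let K₀ : DCoh.DQCoh (Spec (S.residueField s)) := ⟨_, hκ⟩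
  obtain ⟨e₁⟩ := nonempty_push_rightAdjoint H (Or.inl ‹Flat f›) hi hi' (KFlatLib.isQCohD_lpull i)
    (KFlatLib.isQCohD_lpull i') adj adj' K₀
  -- the tensor formula
  obtain ⟨E, hE, ⟨eE⟩⟩ := exists_flat_rep (a.obj O).obj
  haveI := KFlatLib.hasLTensorCx E
  haveI := KFlatLib.hasLTensorCx ((pullC i').obj E)
  have hcop := KoszOrthLib.preservesCoproducts_rightAdjoint f hf
    (fun K hK => Groth.Agent.S1002.result f K hK) a adj
  obtain ⟨T⟩ := Dual3Lib.nonempty_rightAdjoint_iso_tensor f hf a adj hcop O ⟨hO⟩ E ⟨eE⟩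
  obtain ⟨bc⟩ := nonempty_bcNat (f := i) (g := f) H.flip (Or.inr ‹Flat f›)
  obtain ⟨pr⟩ := nonempty_projNat i' E hE (KFlatLib.isQCohD_iso eE.symm (a.obj O).property)
  obtain ⟨u₁⟩ := nonempty_lpull_unitCx f'
  obtain ⟨u₂⟩ := nonempty_lTensor_unit_left ((pullC i').obj E) (KFlatLib.isKFlat_pull i' hE)
  have hF : DCoh.IsQCohD (DerivedCategory.Q.obj (unitCx (f.fiber s))) :=
    KoszOrthLib.isQCohD_of_isPerfect (PerfBaseLib.isPerfect_of_strictlyPerfect (isStrictlyPerfect_unitCx _))
  let F₀ : DCoh.DQCoh (f.fiber s) := ⟨_, hF⟩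
  let d : (DCoh.Rpush i').obj ((DCoh.Lpull i').obj (a.obj O).obj) ≅ (DCoh.Rpush i').obj ((DCoh.RpushQ f' hf').rightAdjoint.obj K₀).obj :=
    ((DCoh.Rpush i').mapIso ((DCoh.Lpull i').mapIso eE.symm ≪≫ KFlatLib.lpullObjIso i' E hE ≪≫ u₂.symm)) ≪≫
      (pr.app F₀).symm ≪≫
      (DCoh.LTensorCx E).mapIso ((DCoh.Rpush i').mapIso u₁.symm ≪≫ (bc.app K₀).symm) ≪≫
      (T.app ((DCoh.RpushQ i hi).obj K₀)).symm ≪≫ e₁
  -- cohomology
  obtain ⟨q₁⟩ := Dual3Lib.nonempty_rpush_pushD i' ((DCoh.Lpull i').obj (a.obj O).obj)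
  obtain ⟨q₂⟩ := Dual3Lib.nonempty_rpush_pushD i' ((DCoh.RpushQ f' hf').rightAdjoint.obj K₀).obj
  obtain ⟨ff⟩ := ExtShLib.push_fullyFaithful i'
  let hI := DerLib.ExactHomology.homologyIso (Scheme.Modules.pushforward i')
  refine ⟨((DCoh.RpushQ f' hf').rightAdjoint.obj K₀).obj, ?_, fun k => ⟨ff.preimageIso
    (((hI k).app _).symm ≪≫ (DerivedCategory.homologyFunctor X.Modules k).mapIso
      (q₁.symm ≪≫ d ≪≫ q₂) ≪≫ (hI k).app _)⟩⟩
  haveI : ∀ (U V : Scheme.{u}) (j : U ⟶ V) [IsOpenImmersion j],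
      PreservesFiniteLimits (Scheme.Modules.restrictFunctor j) := fun U V j _ => inferInstance
  haveI : ∀ (R : CommRingCat.{u}), PreservesFiniteLimits (tilde.functor R) :=
    fun R => HensSchLib.tilde_preservesFiniteLimits R
  haveI : IsLocallyNoetherian (f.fiber s) := (isGorenstein_fiber f hG s).1
  obtain ⟨-, hK⟩ := Dual3Lib.exists_base_point (k := (S.residueField s : Type u))
    (K := K₀.obj) ((DerivedCategory.singleFunctorIsoCompQ _ 0).app _).symm
  exact DualCxLib.isInvertibleD_of_gorenstein (isGorenstein_fiber f hG s)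
    (Dual3Lib.isDualizingSch_rightAdjoint f' hf' _ adj' K₀ hK)

include adj hO hG in
/-- **The relative dualizing complex of a flat proper Gorenstein morphism is invertible.** -/
theorem isInvertibleD_rightAdjoint_unit
    [∀ (U : Scheme.{u}) (j : U ⟶ X) [IsOpenImmersion j], PreservesFiniteLimits (Scheme.Modules.restrictFunctor j)] :
    Dual3.IsInvertibleD (a.obj O).obj := by
  haveI : IsLocallyNoetherian X := LocallyOfFiniteType.isLocallyNoetherian f
  haveI : CompactSpace X := QuasiCompact.compactSpace_of_compactSpace f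
  haveI : IsNoetherian X := ⟨⟩
  have hOc : DCoh.IsCohD O.obj ∧ ∃ c d : ℤ, O.obj.IsGE c ∧ O.obj.IsLE d := by
    obtain ⟨h, c, d, h1, h2⟩ := PerfLib.isCohD_and_bounded_of_isPerfect
      (PerfLib.isPerfect_of_iso (hO ≪≫ (DerivedCategory.singleFunctorIsoCompQ _ 0).app _).symm
        (PerfBaseLib.isPerfect_of_strictlyPerfect (isStrictlyPerfect_unitCx S)))
    exact ⟨h, c, d, h1, h2⟩
  obtain ⟨hc, c, d, hGE, hLE⟩ := isCohD_and_bounded_rightAdjoint f
    (Dual3Lib.isPerfectMor_of_flat f) hf a adj O hOc.1 hOc.2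
  haveI := hGE
  haveI := hLE
  refine isInvertibleD_of_closed_points hc (a := c) (b := d) fun x hx => ?_
  have hs : IsClosed ({f x} : Set S) := by simpa using f.isClosedMap _ hx
  haveI := KFlatLib.hasLpull (f.fiberι (f x))
  haveI : IsClosedImmersion (f.fiberι (f x)) := by
    haveI : IsClosedImmersion (S.fromSpecResidueField (f x)) := isClosed_singleton_iff_isClosedImmersion.1 hs
    exact MorphismProperty.pullback_fst (P := @IsClosedImmersion) _ _ inferInstance
  obtain ⟨G, hG', e⟩ := exists_fibre_model f hG hf a adj O hO (f x) hs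
  obtain ⟨n, h⟩ := stalk_of_invertible_pull (f.fiberι (f x))
    (fun m => PerfDualLib.isPC_of_isCohD (a.obj O).obj d m hc) (f.asFiber x)
    ((f.fiberι (f x)).stalkMap_surjective _) G hG' e
  rw [f.fiberι_asFiber] at h
  exact ⟨n, h⟩

end Fibre

end Groth.Agent.DualFMLib
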